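import Cfsg.Agent.H763.Fi22.PwC1
import Cfsg.Agent.H763.Fi22.PwC2
import Cfsg.Agent.H123.Cls.FiOre
import Cfsg.Agent.H78.Pw.Base

/-!
# S2465, the row `Fi22` (helper763)

Every element of `Fi22` is a product of two elements of order 13 (or 1) and of two elements of order 7 (or 1)
(`q13`, `q7`), from the class cover `words_cover` of helper123 / helper878 / helper494. `pw_fi22` : the row of S2465.
-/

set_option autoImplicit false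
set_option maxRecDepth 100000
set_option exponentiation.threshold 5000

namespace Cfsg.Agent.H763.Fi22.Pw

open Cfsg Cfsg.Agent.H123.Cls Cfsg.Agent.H123.Cls.FiDat
open Cfsg.Agent.H494.F22 (rho rho_injective S wS wS_nil wS_cons wS_append wS_rp mem_rp rel chkRel rp)
open Cfsg.Agent.H78.Pw

theorem rho_el : ∀ {l : List ℕ}, (∀ x ∈ l, x < 9) → rho (el l) = wS l
  | [], _ => by
    show rho 1 = 1
    rw [map_one]
  | x :: l, h => by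
    rw [el_cons, map_mul, gn_S (h x List.mem_cons_self), wS_cons, rho_el fun y hy => h y (List.mem_cons_of_mem _ hy)]

/-- product of two elements with `n`-th power `1` -/
def Q (n : ℕ) (g : Spor.Fi22) : Prop := ∃ x y : Spor.Fi22, g = x * y ∧ x ^ n = 1 ∧ y ^ n = 1

theorem Q.map {n : ℕ} {g : Spor.Fi22} (θ : MulAut Spor.Fi22) (h : Q n g) : Q n (θ g) := by
  obtain ⟨x, y, rfl, hx, hy⟩ := h
  exact ⟨θ x, θ y, map_mul _ _ _, by rw [← map_pow, hx, map_one], by rw [← map_pow, hy, map_one]⟩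

theorem lt10 {l : List ℕ} (h : ∀ x ∈ l, x < 9) : ∀ x ∈ l, x < 10 := fun x hx => lt_trans (h x hx) (by norm_num)

theorem el_pow {l : List ℕ} (hl : ∀ x ∈ l, x < 9) {n : ℕ} (h : chkRel (rp n l, []) = true) : el l ^ n = 1 := by
  apply rho_injective
  have h1 := rel (lt10 fun x hx => hl x (mem_rp hx)) (by simp) h
  rw [wS_rp, wS_nil] at h1
  rw [map_pow, rho_el hl, h1, map_one]

theorem q_of_cert {n : ℕ} {a b x y : List ℕ} (h : cert n a b x y = true) : Q n (el a * el b * (el a)⁻¹ * (el b)⁻¹) := by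
  obtain ⟨h1, h⟩ := band_true h
  obtain ⟨h2, h⟩ := band_true h
  obtain ⟨h3, h⟩ := band_true h
  obtain ⟨h4, h⟩ := band_true h
  obtain ⟨h5, h⟩ := band_true h
  obtain ⟨h6, h7⟩ := band_true h
  have ha := chkL_iff _ a h1
  have hb := chkL_iff _ b h2
  have hx := chkL_iff _ x h3
  have hy := chkL_iff _ y h4
  have hxy : ∀ z ∈ x ++ y, z < 9 := fun z hz => (List.mem_append.1 hz).elim (hx z) (hy z)
  have hw : ∀ z ∈ a ++ (b ++ (a.reverse ++ b.reverse)), z < 9 := by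
    intro z hz
    simp only [List.mem_append, List.mem_reverse] at hz
    rcases hz with h | h | h | h
    · exact ha z h
    · exact hb z h
    · exact ha z h
    · exact hb z h
  refine ⟨el x, el y, rho_injective ?_, el_pow hx h5, el_pow hy h6⟩
  have h8 := rel (lt10 hxy) (lt10 hw) h7
  rw [← rho_el hxy, ← rho_el hw, el_append, el_append, el_append, el_append, el_reverse, el_reverse] at h8
  rw [h8]
  simp only [mul_assoc]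

theorem q_W : ∀ y ∈ W, Q 13 (el y.2.1 * el y.2.2.1 * (el y.2.1)⁻¹ * (el y.2.2.1)⁻¹) ∧
    Q 7 (el y.2.1 * el y.2.2.1 * (el y.2.1)⁻¹ * (el y.2.2.1)⁻¹) :=
  List.forall_mem_cons.2 ⟨⟨q_of_cert c13_0, q_of_cert c7_0⟩, List.forall_mem_cons.2 ⟨⟨q_of_cert c13_1, q_of_cert c7_1⟩, 
  List.forall_mem_cons.2 ⟨⟨q_of_cert c13_2, q_of_cert c7_2⟩, List.forall_mem_cons.2 ⟨⟨q_of_cert c13_3, q_of_cert c7_3⟩, 
  List.forall_mem_cons.2 ⟨⟨q_of_cert c13_4, q_of_cert c7_4⟩, List.forall_mem_cons.2 ⟨⟨q_of_cert c13_5, q_of_cert c7_5⟩, 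
  List.forall_mem_cons.2 ⟨⟨q_of_cert c13_6, q_of_cert c7_6⟩, List.forall_mem_cons.2 ⟨⟨q_of_cert c13_7, q_of_cert c7_7⟩, 
  List.forall_mem_cons.2 ⟨⟨q_of_cert c13_8, q_of_cert c7_8⟩, List.forall_mem_cons.2 ⟨⟨q_of_cert c13_9, q_of_cert c7_9⟩, 
  List.forall_mem_cons.2 ⟨⟨q_of_cert c13_10, q_of_cert c7_10⟩, List.forall_mem_cons.2 ⟨⟨q_of_cert c13_11, q_of_cert c7_11⟩, 
  List.forall_mem_cons.2 ⟨⟨q_of_cert c13_12, q_of_cert c7_12⟩, List.forall_mem_cons.2 ⟨⟨q_of_cert c13_13, q_of_cert c7_13⟩, 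
  List.forall_mem_cons.2 ⟨⟨q_of_cert c13_14, q_of_cert c7_14⟩, List.forall_mem_cons.2 ⟨⟨q_of_cert c13_15, q_of_cert c7_15⟩, 
  List.forall_mem_cons.2 ⟨⟨q_of_cert c13_16, q_of_cert c7_16⟩, List.forall_mem_cons.2 ⟨⟨q_of_cert c13_17, q_of_cert c7_17⟩, 
  List.forall_mem_cons.2 ⟨⟨q_of_cert c13_18, q_of_cert c7_18⟩, List.forall_mem_cons.2 ⟨⟨q_of_cert c13_19, q_of_cert c7_19⟩, 
  List.forall_mem_cons.2 ⟨⟨q_of_cert c13_20, q_of_cert c7_20⟩, List.forall_mem_cons.2 ⟨⟨q_of_cert c13_21, q_of_cert c7_21⟩, 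
  List.forall_mem_cons.2 ⟨⟨q_of_cert c13_22, q_of_cert c7_22⟩, List.forall_mem_cons.2 ⟨⟨q_of_cert c13_23, q_of_cert c7_23⟩, 
  List.forall_mem_cons.2 ⟨⟨q_of_cert c13_24, q_of_cert c7_24⟩, List.forall_mem_cons.2 ⟨⟨q_of_cert c13_25, q_of_cert c7_25⟩, 
  List.forall_mem_cons.2 ⟨⟨q_of_cert c13_26, q_of_cert c7_26⟩, List.forall_mem_cons.2 ⟨⟨q_of_cert c13_27, q_of_cert c7_27⟩, 
  List.forall_mem_cons.2 ⟨⟨q_of_cert c13_28, q_of_cert c7_28⟩, List.forall_mem_cons.2 ⟨⟨q_of_cert c13_29, q_of_cert c7_29⟩, 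
  List.forall_mem_cons.2 ⟨⟨q_of_cert c13_30, q_of_cert c7_30⟩, List.forall_mem_cons.2 ⟨⟨q_of_cert c13_31, q_of_cert c7_31⟩, 
  List.forall_mem_cons.2 ⟨⟨q_of_cert c13_32, q_of_cert c7_32⟩, List.forall_mem_cons.2 ⟨⟨q_of_cert c13_33, q_of_cert c7_33⟩, 
  List.forall_mem_cons.2 ⟨⟨q_of_cert c13_34, q_of_cert c7_34⟩, List.forall_mem_cons.2 ⟨⟨q_of_cert c13_35, q_of_cert c7_35⟩, 
  List.forall_mem_cons.2 ⟨⟨q_of_cert c13_36, q_of_cert c7_36⟩, List.forall_mem_cons.2 ⟨⟨q_of_cert c13_37, q_of_cert c7_37⟩, 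
  List.forall_mem_cons.2 ⟨⟨q_of_cert c13_38, q_of_cert c7_38⟩, List.forall_mem_cons.2 ⟨⟨q_of_cert c13_39, q_of_cert c7_39⟩, 
  List.forall_mem_cons.2 ⟨⟨q_of_cert c13_40, q_of_cert c7_40⟩, List.forall_mem_cons.2 ⟨⟨q_of_cert c13_41, q_of_cert c7_41⟩, 
  List.forall_mem_cons.2 ⟨⟨q_of_cert c13_42, q_of_cert c7_42⟩, List.forall_mem_cons.2 ⟨⟨q_of_cert c13_43, q_of_cert c7_43⟩, 
  List.forall_mem_cons.2 ⟨⟨q_of_cert c13_44, q_of_cert c7_44⟩, List.forall_mem_cons.2 ⟨⟨q_of_cert c13_45, q_of_cert c7_45⟩, 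
  List.forall_mem_cons.2 ⟨⟨q_of_cert c13_46, q_of_cert c7_46⟩, List.forall_mem_cons.2 ⟨⟨q_of_cert c13_47, q_of_cert c7_47⟩, 
  List.forall_mem_cons.2 ⟨⟨q_of_cert c13_48, q_of_cert c7_48⟩, List.forall_mem_cons.2 ⟨⟨q_of_cert c13_49, q_of_cert c7_49⟩, 
  List.forall_mem_cons.2 ⟨⟨q_of_cert c13_50, q_of_cert c7_50⟩, List.forall_mem_cons.2 ⟨⟨q_of_cert c13_51, q_of_cert c7_51⟩, 
  List.forall_mem_cons.2 ⟨⟨q_of_cert c13_52, q_of_cert c7_52⟩, List.forall_mem_cons.2 ⟨⟨q_of_cert c13_53, q_of_cert c7_53⟩, 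
  List.forall_mem_cons.2 ⟨⟨q_of_cert c13_54, q_of_cert c7_54⟩, List.forall_mem_cons.2 ⟨⟨q_of_cert c13_55, q_of_cert c7_55⟩, 
  List.forall_mem_cons.2 ⟨⟨q_of_cert c13_56, q_of_cert c7_56⟩, List.forall_mem_cons.2 ⟨⟨q_of_cert c13_57, q_of_cert c7_57⟩, 
  List.forall_mem_cons.2 ⟨⟨q_of_cert c13_58, q_of_cert c7_58⟩, List.forall_mem_nil _⟩⟩⟩⟩⟩⟩⟩⟩⟩⟩⟩⟩⟩⟩⟩⟩⟩⟩⟩⟩⟩⟩⟩⟩⟩⟩⟩⟩⟩⟩⟩⟩⟩⟩⟩⟩⟩⟩⟩⟩⟩⟩⟩⟩⟩⟩⟩⟩⟩⟩⟩⟩⟩⟩⟩⟩⟩⟩⟩

theorem q13 (g : Spor.Fi22) : Q 13 g := by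
  obtain ⟨y, hy, θ, rfl⟩ := words_cover g
  exact (q_W y hy).1.map θ

theorem q7 (g : Spor.Fi22) : Q 7 g := by
  obtain ⟨y, hy, θ, rfl⟩ := words_cover g
  exact (q_W y hy).2.map θ

theorem pw_Fi22 : Pw Spor.Fi22 := by
  have key : ∀ (q n : ℕ), q.Coprime n → (∀ g : Spor.Fi22, Q q g) → All n Spor.Fi22 := by
    intro q n hq hQ
    refine All.of_two_pgroup hq fun g => ?_
    obtain ⟨x, y, e, hx, hy⟩ := hQ g
    exact ⟨x, y, e, ⟨1, by rwa [pow_one]⟩, 1, by rwa [pow_one]⟩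
  refine ⟨key 13 6 (by decide) q13, fun p hp h5 => ?_⟩
  by_cases h : p = 13
  · subst h
    exact key 7 13 (by decide) q7
  · refine key 13 p ?_ q13
    exact (Nat.coprime_primes (by norm_num) hp).2 (Ne.symm h)

/-- **S2465 for `Fi22`** -/
theorem pw_fi22 {G : Type*} [Group G] (h : Spor.IsoFi22 G) : Pw G := by
  obtain ⟨e⟩ := h
  exact pw_Fi22.congr e.symm

end Cfsg.Agent.H763.Fi22.Pw
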