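import Cfsg.Agent.H494.F22.Chk
import Cfsg.Agent.H123.Cls.Eng

/-!
# `Fi22`: certificates for products of two elements of order 13 and of order 7, part 1 (helper763)

`cert n a b x y` : the `n`-th powers of the words `x`, `y` are trivial and `x y = [a, b]`, in the 78-dimensional representation
over `F₂` (matrices of helper494; class words of helper878 / helper123).
-/

set_option autoImplicit false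
set_option maxRecDepth 100000
set_option exponentiation.threshold 300000

namespace Cfsg.Agent.H763.Fi22.Pw

open Cfsg.Agent.H494.F22 (chkRel rp)
open Cfsg.Agent.H123.Cls (band chkL)

/-- the certificate -/
noncomputable def cert (n : ℕ) (a b x y : List ℕ) : Bool :=
  band (chkL 9 a) (band (chkL 9 b) (band (chkL 9 x) (band (chkL 9 y) (band (chkRel (rp n x, []))
    (band (chkRel (rp n y, [])) (chkRel (x ++ y, a ++ (b ++ (a.reverse ++ b.reverse)))))))))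

theorem c13_0 : cert 13 [3, 7, 4, 3] [2, 4] [3, 2, 1, 0, 4, 5, 4, 6, 8, 7] [7, 8, 6, 4, 5, 4, 0, 1, 2, 7, 4, 3, 2, 4, 3, 4, 7, 3, 4, 2] = true := by decide +kernel
theorem c7_0 : cert 7 [3, 7, 4, 3] [2, 4] [3, 2, 1, 0, 5, 4] [4, 5, 0, 1, 2, 7, 4, 3, 2, 4, 3, 4, 7, 3, 4, 2] = true := by decide +kernel
theorem c13_1 : cert 13 [7] [3, 8] [7, 3, 2, 1, 0, 4, 5, 8] [8, 5, 4, 0, 1, 2, 8, 7, 8, 3] = true := by decide +kernel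
theorem c7_1 : cert 7 [7] [3, 8] [7, 3, 2, 1, 0, 8] [8, 0, 1, 2, 8, 7, 8, 3] = true := by decide +kernel
theorem c13_2 : cert 13 [8, 6, 5, 4, 3, 2, 7, 0, 4, 2, 2, 3, 4, 5, 6, 8] [3, 4, 6, 7, 8, 7, 3, 2, 4] [8, 7, 3, 2, 1, 0, 4, 5] [5, 4, 0, 1, 2, 3, 7, 6, 5, 4, 3, 2, 7, 0, 4, 3, 4, 5, 6, 8, 3, 4, 6, 7, 8, 7, 3, 2, 4, 8, 6, 5, 4, 3, 4, 0, 7, 2, 3, 4, 5, 6, 8, 4, 2, 3, 7, 8, 7, 6, 4, 3] = true := by decide +kernel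
theorem c7_2 : cert 7 [8, 6, 5, 4, 3, 2, 7, 0, 4, 2, 2, 3, 4, 5, 6, 8] [3, 4, 6, 7, 8, 7, 3, 2, 4] [1, 2, 5, 6, 7, 3, 2, 4, 3] [3, 4, 2, 3, 7, 6, 5, 2, 1, 8, 6, 5, 4, 3, 2, 7, 0, 4, 3, 4, 5, 6, 8, 3, 4, 6, 7, 8, 7, 3, 2, 4, 8, 6, 5, 4, 3, 4, 0, 7, 2, 3, 4, 5, 6, 8, 4, 2, 3, 7, 8, 7, 6, 4, 3] = true := by decide +kernel
theorem c13_3 : cert 13 [1, 8, 6] [2, 5, 7] [1, 0, 2, 3, 4, 5, 8, 7] [7, 8, 5, 4, 3, 2, 0, 8, 6, 2, 5, 7, 6, 8, 1, 7, 5, 2] = true := by decide +kernel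
theorem c7_3 : cert 7 [1, 8, 6] [2, 5, 7] [2, 1, 3, 4, 6, 5] [5, 6, 4, 3, 1, 2, 1, 8, 6, 2, 5, 7, 6, 8, 1, 7, 5, 2] = true := by decide +kernel
theorem c13_4 : cert 13 [3, 7, 4, 0, 3, 8, 5, 4, 7, 3] [2, 8, 7] [3, 2, 1, 0, 5, 4, 8, 7] [7, 8, 4, 5, 0, 1, 2, 7, 4, 0, 3, 8, 5, 4, 7, 3, 2, 8, 7, 3, 7, 4, 5, 8, 3, 0, 4, 7, 3, 7, 8, 2] = true := by decide +kernel
theorem c7_4 : cert 7 [3, 7, 4, 0, 3, 8, 5, 4, 7, 3] [2, 8, 7] [3, 4, 6, 5, 8, 7] [7, 8, 5, 6, 4, 7, 4, 0, 3, 8, 5, 4, 7, 3, 2, 8, 7, 3, 7, 4, 5, 8, 3, 0, 4, 7, 3, 7, 8, 2] = true := by decide +kernel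
theorem c13_5 : cert 13 [0, 3] [1, 7] [0, 3, 2, 1, 4, 5, 7, 8] [8, 7, 5, 4, 1, 2, 1, 7, 3, 0, 7, 1] = true := by decide +kernel
theorem c7_5 : cert 7 [0, 3] [1, 7] [0, 3, 2, 1, 4, 5] [5, 4, 1, 2, 1, 7, 3, 0, 7, 1] = true := by decide +kernel
theorem c13_6 : cert 13 [2] [1] [2, 1, 0, 3, 4, 5, 7, 8] [8, 7, 5, 4, 3, 0, 2, 1] = true := by decide +kernel
theorem c7_6 : cert 7 [2] [1] [2, 1, 0, 3, 4, 5] [5, 4, 3, 0, 2, 1] = true := by decide +kernel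
theorem c13_7 : cert 13 [2, 4, 7] [3, 8] [2, 1, 0, 3, 4, 5, 7, 8] [8, 7, 5, 4, 3, 0, 1, 4, 7, 3, 8, 7, 4, 2, 8, 3] = true := by decide +kernel
theorem c7_7 : cert 7 [2, 4, 7] [3, 8] [2, 1, 0, 7, 3, 8] [8, 3, 7, 0, 1, 4, 7, 3, 8, 7, 4, 2, 8, 3] = true := by decide +kernel
theorem c13_8 : cert 13 [3, 7, 5, 1, 0, 8, 2, 4, 6, 1, 5, 7, 3] [4, 3, 2] [3, 2, 1, 0, 4, 5, 8, 7] [7, 8, 5, 4, 0, 1, 2, 7, 5, 1, 0, 8, 2, 4, 6, 1, 5, 7, 3, 4, 3, 2, 3, 7, 5, 1, 6, 4, 2, 8, 0, 1, 5, 7, 3, 2, 3, 4] = true := by decide +kernel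
theorem c7_8 : cert 7 [3, 7, 5, 1, 0, 8, 2, 4, 6, 1, 5, 7, 3] [4, 3, 2] [6, 7, 3, 4, 5, 8] [8, 5, 4, 3, 7, 6, 3, 7, 5, 1, 0, 8, 2, 4, 6, 1, 5, 7, 3, 4, 3, 2, 3, 7, 5, 1, 6, 4, 2, 8, 0, 1, 5, 7, 3, 2, 3, 4] = true := by decide +kernel
theorem c13_9 : cert 13 [8, 4] [5, 7, 3] [0, 1, 2, 3, 5, 4, 8, 7] [7, 8, 4, 5, 3, 2, 1, 0, 8, 4, 5, 7, 3, 4, 8, 3, 7, 5] = true := by decide +kernel
theorem c7_9 : cert 7 [8, 4] [5, 7, 3] [3, 5, 4, 6, 8, 7] [7, 8, 6, 4, 5, 3, 8, 4, 5, 7, 3, 4, 8, 3, 7, 5] = true := by decide +kernel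
theorem c13_10 : cert 13 [3, 5, 2, 7, 3] [4, 6, 8, 7, 3, 5, 4] [0, 1, 2, 3, 4, 5, 8, 7] [7, 8, 5, 4, 3, 2, 1, 0, 3, 5, 2, 7, 3, 4, 6, 8, 7, 3, 5, 4, 3, 7, 2, 5, 3, 4, 5, 3, 7, 8, 6, 4] = true := by decide +kernel
theorem c7_10 : cert 7 [3, 5, 2, 7, 3] [4, 6, 8, 7, 3, 5, 4] [3, 5, 4, 6, 7, 8] [8, 7, 6, 4, 2, 7, 3, 4, 6, 8, 7, 3, 5, 4, 3, 7, 2, 5, 3, 4, 5, 3, 7, 8, 6, 4] = true := by decide +kernel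
theorem c13_11 : cert 13 [1, 5, 3] [0, 2, 4, 6] [1, 5, 6, 7, 3, 2, 4, 8] [8, 4, 2, 3, 7, 6, 3, 0, 2, 4, 6, 3, 5, 1, 6, 4, 2, 0] = true := by decide +kernel
theorem c7_11 : cert 7 [1, 5, 3] [0, 2, 4, 6] [1, 0, 2, 5, 4, 3] [3, 4, 5, 2, 0, 5, 3, 0, 2, 4, 6, 3, 5, 1, 6, 4, 2, 0] = true := by decide +kernel
theorem c13_12 : cert 13 [8, 2] [7, 3] [0, 1, 2, 4, 3, 5, 8, 7] [7, 8, 5, 3, 4, 2, 1, 0, 8, 2, 7, 3, 2, 8, 3, 7] = true := by decide +kernel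
theorem c7_12 : cert 7 [8, 2] [7, 3] [0, 1, 2, 3, 8, 7] [7, 8, 3, 2, 1, 0, 8, 2, 7, 3, 2, 8, 3, 7] = true := by decide +kernel
theorem c13_13 : cert 13 [7, 2, 4] [1, 3, 5] [7, 3, 2, 1, 0, 4, 5, 8] [8, 5, 4, 0, 1, 2, 3, 2, 4, 1, 3, 5, 4, 2, 7, 5, 3, 1] = true := by decide +kernel
theorem c7_13 : cert 7 [7, 2, 4] [1, 3, 5] [0, 2, 1, 4, 3, 5] [5, 3, 4, 1, 2, 0, 7, 2, 4, 1, 3, 5, 4, 2, 7, 5, 3, 1] = true := by decide +kernel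
theorem c13_14 : cert 13 [4, 7, 2] [1, 3, 8] [4, 3, 2, 1, 0, 5, 7, 8] [8, 7, 5, 0, 1, 2, 3, 7, 2, 1, 3, 8, 2, 7, 4, 8, 3, 1] = true := by decide +kernel
theorem c7_14 : cert 7 [4, 7, 2] [1, 3, 8] [4, 5, 6, 8, 7, 3] [3, 7, 8, 6, 5, 7, 2, 1, 3, 8, 2, 7, 4, 8, 3, 1] = true := by decide +kernel
theorem c13_15 : cert 13 [8, 2, 5] [1, 4, 7, 3] [0, 1, 3, 2, 5, 4, 8, 7] [7, 8, 4, 5, 2, 3, 1, 0, 8, 2, 5, 1, 4, 7, 3, 5, 2, 8, 3, 7, 4, 1] = true := by decide +kernel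
theorem c7_15 : cert 7 [8, 2, 5] [1, 4, 7, 3] [1, 2, 6, 5, 4, 3] [3, 4, 5, 6, 2, 1, 8, 2, 5, 1, 4, 7, 3, 5, 2, 8, 3, 7, 4, 1] = true := by decide +kernel
theorem c13_16 : cert 13 [1, 7, 4] [2, 3] [1, 0, 2, 3, 4, 5, 7, 8] [8, 7, 5, 4, 3, 2, 0, 7, 4, 2, 3, 4, 7, 1, 3, 2] = true := by decide +kernel
theorem c7_16 : cert 7 [1, 7, 4] [2, 3] [1, 0, 2, 3, 4, 5] [5, 4, 3, 2, 0, 7, 4, 2, 3, 4, 7, 1, 3, 2] = true := by decide +kernel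
theorem c13_17 : cert 13 [5, 0, 3, 8] [1, 6, 7] [5, 6, 7, 3, 2, 1, 4, 8] [8, 4, 1, 2, 3, 7, 6, 0, 3, 8, 1, 6, 7, 8, 3, 0, 5, 7, 6, 1] = true := by decide +kernel
theorem c7_17 : cert 7 [5, 0, 3, 8] [1, 6, 7] [1, 0, 2, 3, 4, 3, 5, 4] [4, 5, 3, 4, 3, 2, 0, 1, 5, 0, 3, 8, 1, 6, 7, 8, 3, 0, 5, 7, 6, 1] = true := by decide +kernel
theorem c13_18 : cert 13 [4, 3, 6, 2, 3] [7, 3, 5] [4, 3, 2, 1, 0, 5, 8, 7] [7, 8, 5, 0, 1, 2, 6, 2, 3, 7, 3, 5, 3, 2, 6, 3, 4, 5, 3, 7] = true := by decide +kernel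
theorem c7_18 : cert 7 [4, 3, 6, 2, 3] [7, 3, 5] [0, 1, 2, 5, 4, 3] [3, 4, 5, 2, 1, 0, 4, 3, 6, 2, 3, 7, 3, 5, 3, 2, 6, 3, 4, 5, 3, 7] = true := by decide +kernel
theorem c13_19 : cert 13 [7, 1, 8, 3, 5, 7, 7, 2] [1, 2, 8, 7, 3, 4, 3] [0, 1, 2, 3, 4, 5, 8, 7] [7, 8, 5, 4, 3, 2, 1, 0, 7, 1, 8, 3, 5, 2, 1, 2, 8, 7, 3, 4, 3, 2, 5, 3, 8, 1, 7, 3, 4, 3, 7, 8, 2, 1] = true := by decide +kernel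
theorem c7_19 : cert 7 [7, 1, 8, 3, 5, 7, 7, 2] [1, 2, 8, 7, 3, 4, 3] [1, 0, 8, 7, 3, 2] [2, 3, 7, 8, 0, 1, 7, 1, 8, 3, 5, 2, 1, 2, 8, 7, 3, 4, 3, 2, 5, 3, 8, 1, 7, 3, 4, 3, 7, 8, 2, 1] = true := by decide +kernel

end Cfsg.Agent.H763.Fi22.Pw
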